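import Mathlib.Combinatorics.SimpleGraph.Finite
import Mathlib.Combinatorics.SimpleGraph.DeleteEdges
import Mathlib.Combinatorics.SimpleGraph.Connectivity.Connected
import Mathlib.Algebra.Group.Pi.Lemmas
import Mathlib.Algebra.BigOperators.Group.Finset.Basic
import Mathlib.Algebra.BigOperators.Pi
import Mathlib.Algebra.Group.Subgroup.Basic
import Mathlib.Algebra.Group.Submonoid.BigOperators
import Mathlib.Algebra.Module.BigOperators

/-!
# Edge labellings of finite connected bipartite graphs

`bd G A x v` is the sum of `x` over the edges incident to `v`; on a connected bipartite graph the range of `bd` consists of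
the labellings of the vertices with the same sum over both colours.
-/

set_option autoImplicit false
universe u v

namespace K774.Cycle

open Finset

set_option linter.unusedSectionVars false

variable {V : Type u} [Fintype V] [DecidableEq V]

/-- The additive map sending an edge labelling to the vertex labelling of the sums over incident edges. -/
def bd (G : SimpleGraph V) [DecidableRel G.Adj] (A : Type v) [AddCommGroup A] : (Sym2 V → A) →+ (V → A) where
  toFun x := fun v => ∑ e ∈ G.incidenceFinset v, x e
  map_zero' := by ext v; simp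
  map_add' x y := by ext v; simp [Finset.sum_add_distrib]

theorem bd_apply (G : SimpleGraph V) [DecidableRel G.Adj] (A : Type v) [AddCommGroup A] (x : Sym2 V → A) (v : V) :
    bd G A x v = ∑ e ∈ G.incidenceFinset v, x e := rfl

theorem bd_single (G : SimpleGraph V) [DecidableRel G.Adj] (A : Type v) [AddCommGroup A] {v w : V} (h : G.Adj v w) (α : A) :
    bd G A (Pi.single s(v, w) α) = Pi.single v α + Pi.single w α := by
  ext z
  rw [bd_apply]
  have hvw : v ≠ w := h.ne
  by_cases hz : s(v, w) ∈ G.incidenceFinset z
  · rw [Finset.sum_pi_single']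
    rw [if_pos hz]
    rw [SimpleGraph.mem_incidenceFinset] at hz
    have hz2 : z ∈ s(v, w) := hz.2
    rw [Sym2.mem_iff] at hz2
    rcases hz2 with rfl | rfl
    · simp [hvw]
    · simp [hvw.symm]
  · rw [Finset.sum_pi_single']
    rw [if_neg hz]
    have h1 : z ≠ v := by
      rintro rfl
      apply hz
      rw [SimpleGraph.mem_incidenceFinset]
      exact ⟨h, Sym2.mem_mk_left _ _⟩
    have h2 : z ≠ w := by
      rintro rfl
      apply hz
      rw [SimpleGraph.mem_incidenceFinset]
      exact ⟨h, Sym2.mem_mk_right _ _⟩
    simp [h1, h2]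

/-- The sign of a vertex. -/
def sg (c : V → Bool) (v : V) : ℤ := if c v = true then 1 else -1

theorem sg_mul_self (c : V → Bool) (v : V) : sg c v * sg c v = 1 := by
  unfold sg; split_ifs <;> norm_num

theorem sg_smul_smul (c : V → Bool) (v : V) {A : Type v} [AddCommGroup A] (a : A) : sg c v • (sg c v • a) = a := by
  rw [smul_smul, sg_mul_self, one_smul]

theorem sg_adj {G : SimpleGraph V} {c : V → Bool} (hbip : ∀ v w : V, G.Adj v w → c v ≠ c w) {v w : V} (h : G.Adj v w) :
    sg c w = - sg c v := by
  have := hbip v w h
  unfold sg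
  cases h1 : c v <;> cases h2 : c w <;> simp_all

theorem sum_sg_smul (c : V → Bool) {A : Type v} [AddCommGroup A] (a : V → A) :
    ∑ v, sg c v • a v = ∑ v ∈ Finset.univ.filter (fun v => c v = true), a v -
      ∑ v ∈ Finset.univ.filter (fun v => c v = false), a v := by
  rw [← Finset.sum_filter_add_sum_filter_not (Finset.univ : Finset V) (fun v => c v = true)]
  rw [sub_eq_add_neg, ← Finset.sum_neg_distrib]
  congr 1
  · apply Finset.sum_congr rfl
    intro v hv
    simp only [Finset.mem_filter, Finset.mem_univ, true_and] at hv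
    simp [sg, hv]
  · have : Finset.univ.filter (fun v => ¬ c v = true) = Finset.univ.filter (fun v => c v = false) := by
      ext v; simp
    rw [this]
    apply Finset.sum_congr rfl
    intro v hv
    simp only [Finset.mem_filter, Finset.mem_univ, true_and] at hv
    simp [sg, hv]

theorem reach {G : SimpleGraph V} [DecidableRel G.Adj] {c : V → Bool} (hbip : ∀ v w : V, G.Adj v w → c v ≠ c w)
    (A : Type v) [AddCommGroup A] {v w : V} (h : G.Reachable v w) (α : A) :
    (Pi.single v (sg c v • α) - Pi.single w (sg c w • α) : V → A) ∈ (bd G A).range := by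
  obtain ⟨p⟩ := h
  induction p with
  | nil => simp
  | @cons x y z hxy p ih =>
    have h1 : (Pi.single x (sg c x • α) - Pi.single y (sg c y • α) : V → A) ∈ (bd G A).range := by
      refine ⟨Pi.single s(x, y) (sg c x • α), ?_⟩
      rw [bd_single G A hxy, sg_adj hbip hxy, neg_smul, Pi.single_neg, sub_neg_eq_add]
    have := add_mem h1 ih
    simpa using this

theorem range_bd {G : SimpleGraph V} [DecidableRel G.Adj] (hconn : G.Connected) {c : V → Bool}
    (hbip : ∀ v w : V, G.Adj v w → c v ≠ c w) (A : Type v) [AddCommGroup A] (a : V → A)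
    (hsum : ∑ v, sg c v • a v = 0) : a ∈ (bd G A).range := by
  obtain ⟨r⟩ := hconn.nonempty
  have key : a = ∑ v, (Pi.single v (sg c v • (sg c v • a v)) - Pi.single r (sg c r • (sg c v • a v)) : V → A) := by
    rw [Finset.sum_sub_distrib]
    simp only [sg_smul_smul]
    have h2 : ∑ v, (Pi.single r (sg c r • (sg c v • a v)) : V → A) = 0 := by
      have : ∑ v, (Pi.single r (sg c r • (sg c v • a v)) : V → A) =
          Pi.single r (∑ v, sg c r • (sg c v • a v)) := by
        exact (map_sum (AddMonoidHom.single (fun _ : V => A) r) (fun v => sg c r • (sg c v • a v)) Finset.univ).symm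
      rw [this, ← Finset.smul_sum, hsum, smul_zero, Pi.single_zero]
    rw [h2, sub_zero]
    exact (Finset.univ_sum_single a).symm
  rw [key]
  apply sum_mem
  intro v _
  exact reach hbip A (hconn.preconnected v r) _

theorem sum_sg_bd {G : SimpleGraph V} [DecidableRel G.Adj] {c : V → Bool}
    (hbip : ∀ v w : V, G.Adj v w → c v ≠ c w) (A : Type v) [AddCommGroup A] (x : Sym2 V → A) :
    ∑ v, sg c v • bd G A x v = 0 := by
  have h1 : x = ∑ e, Pi.single e (x e) := (Finset.univ_sum_single x).symm
  rw [h1]
  simp only [map_sum, Finset.sum_apply, Finset.smul_sum]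
  rw [Finset.sum_comm]
  apply Finset.sum_eq_zero
  intro e _
  by_cases he : e ∈ G.edgeSet
  · induction e using Sym2.ind with
    | _ v w =>
      rw [SimpleGraph.mem_edgeSet] at he
      rw [bd_single G A he]
      simp only [Pi.add_apply, smul_add]
      rw [Finset.sum_add_distrib]
      rw [Finset.sum_eq_single v, Finset.sum_eq_single w]
      · simp [sg_adj hbip he]
      · intro b _ hb; simp [Pi.single_eq_of_ne hb]
      · simp
      · intro b _ hb; simp [Pi.single_eq_of_ne hb]
      · simp
  · apply Finset.sum_eq_zero
    intro v _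
    rw [bd_apply, Finset.sum_pi_single', if_neg, smul_zero]
    intro h
    rw [SimpleGraph.mem_incidenceFinset] at h
    exact he h.1

theorem bd_restrict {G G' : SimpleGraph V} [DecidableRel G.Adj] [DecidableRel G'.Adj] (h : G' ≤ G)
    (A : Type v) [AddCommGroup A] (x : Sym2 V → A) :
    bd G A (fun e => if e ∈ G'.edgeSet then x e else 0) = bd G' A x := by
  ext v
  rw [bd_apply, bd_apply, ← Finset.sum_filter]
  apply Finset.sum_congr _ (fun _ _ => rfl)
  ext e
  simp only [Finset.mem_filter, SimpleGraph.mem_incidenceFinset]
  constructor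
  · rintro ⟨h1, h2⟩
    exact ⟨h2, h1.2⟩
  · rintro ⟨h1, h2⟩
    exact ⟨⟨SimpleGraph.edgeSet_subset_edgeSet.2 h h1, h2⟩, h1⟩

end K774.Cycle
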