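import Mathlib.LinearAlgebra.FreeModule.PID
import Mathlib.LinearAlgebra.Dimension.RankNullity
import Mathlib.LinearAlgebra.Dimension.Localization
import Mathlib.LinearAlgebra.Dimension.Free
import Mathlib.LinearAlgebra.Matrix.ToLin
import Mathlib.Algebra.Module.Projective
import Mathlib.Algebra.EuclideanDomain.Int

/-!
# Integer matrices acting on powers of an abelian group, and split exact sequences of lattices
-/

set_option autoImplicit false
universe u v w

namespace K774.Lin

open Finset

set_option linter.unusedSectionVars false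

variable {α β γ : Type*} [Fintype α] [Fintype β] [Fintype γ]

/-- The action of an integer linear map between `ℤ^α` and `ℤ^β` on `A^α → A^β`. -/
def app [DecidableEq α] (M : (α → ℤ) →ₗ[ℤ] (β → ℤ)) (A : Type v) [AddCommGroup A] : (α → A) →+ (β → A) where
  toFun a := fun j => ∑ i, (M (Pi.single i 1) j) • a i
  map_zero' := by ext; simp
  map_add' x y := by ext; simp [Finset.sum_add_distrib, smul_add]

theorem app_apply [DecidableEq α] (M : (α → ℤ) →ₗ[ℤ] (β → ℤ)) (A : Type v) [AddCommGroup A] (a : α → A) (j : β) :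
    app M A a j = ∑ i, (M (Pi.single i 1) j) • a i := rfl

theorem apply_eq_sum [DecidableEq α] (M : (α → ℤ) →ₗ[ℤ] (β → ℤ)) (x : α → ℤ) (j : β) :
    M x j = ∑ i, x i * M (Pi.single i 1) j := by
  conv_lhs => rw [← Finset.univ_sum_single x]
  rw [map_sum, Finset.sum_apply]
  apply Finset.sum_congr rfl
  intro i _
  have : (Pi.single i (x i) : α → ℤ) = x i • Pi.single i 1 := by
    ext j
    by_cases h : j = i
    · subst h; simp
    · simp [Pi.single_eq_of_ne h]
  rw [this, map_smul]
  simp

theorem app_comp [DecidableEq α] [DecidableEq β] (N : (β → ℤ) →ₗ[ℤ] (γ → ℤ)) (M : (α → ℤ) →ₗ[ℤ] (β → ℤ))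
    (A : Type v) [AddCommGroup A] (a : α → A) :
    app N A (app M A a) = app (N ∘ₗ M) A a := by
  ext k
  simp only [app_apply, LinearMap.comp_apply]
  simp only [Finset.smul_sum, smul_smul]
  rw [Finset.sum_comm]
  apply Finset.sum_congr rfl
  intro i _
  rw [← Finset.sum_smul]
  congr 1
  rw [apply_eq_sum N (M (Pi.single i 1)) k]
  apply Finset.sum_congr rfl
  intro j _
  ring

theorem app_id [DecidableEq α] (A : Type v) [AddCommGroup A] (a : α → A) :
    app (LinearMap.id : (α → ℤ) →ₗ[ℤ] (α → ℤ)) A a = a := by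
  ext k
  simp only [app_apply, LinearMap.id_apply]
  rw [Finset.sum_eq_single k]
  · simp
  · intro b _ hb
    simp [Pi.single_eq_of_ne hb.symm]
  · simp

theorem app_add [DecidableEq α] (M N : (α → ℤ) →ₗ[ℤ] (β → ℤ)) (A : Type v) [AddCommGroup A] (a : α → A) :
    app (M + N) A a = app M A a + app N A a := by
  ext k
  simp [app_apply, add_smul, Finset.sum_add_distrib]

theorem app_zero [DecidableEq α] (A : Type v) [AddCommGroup A] (a : α → A) :
    app (0 : (α → ℤ) →ₗ[ℤ] (β → ℤ)) A a = 0 := by
  ext k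
  simp [app_apply]

/-- A presentation of the kernel of a linear map of lattices whose range is the kernel of a surjective linear form. -/
theorem exists_split [DecidableEq α] [DecidableEq β] (D : (α → ℤ) →ₗ[ℤ] (β → ℤ)) (ε : (β → ℤ) →ₗ[ℤ] ℤ)
    (hε : Function.Surjective ε) (hD : LinearMap.range D = LinearMap.ker ε) (n : ℕ)
    (hn : Fintype.card α + 1 = Fintype.card β + n) :
    ∃ (b : (Fin n → ℤ) →ₗ[ℤ] (α → ℤ)) (r : (α → ℤ) →ₗ[ℤ] (Fin n → ℤ)) (σ : (β → ℤ) →ₗ[ℤ] (α → ℤ)),
      r ∘ₗ b = LinearMap.id ∧ D ∘ₗ b = 0 ∧ b ∘ₗ r + σ ∘ₗ D = LinearMap.id := by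
  obtain ⟨τ, hτ⟩ := LinearMap.exists_rightInverse_of_surjective ε (LinearMap.range_eq_top.2 hε)
  have hτ' : ∀ z, ε (τ z) = z := fun z => by
    have := LinearMap.congr_fun hτ z
    simpa using this
  let π : (β → ℤ) →ₗ[ℤ] LinearMap.range D := (LinearMap.id - τ ∘ₗ ε).codRestrict _ (fun x => by
    rw [hD, LinearMap.mem_ker]
    simp [hτ'])
  have : Module.Free ℤ (LinearMap.range D) := Module.free_of_finite_type_torsion_free'
  have : Module.Free ℤ (LinearMap.ker D) := Module.free_of_finite_type_torsion_free'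
  have : Module.Projective ℤ (LinearMap.range D) := Module.Projective.of_free
  obtain ⟨s, hs⟩ := LinearMap.exists_rightInverse_of_surjective D.rangeRestrict (LinearMap.range_rangeRestrict D)
  have hs' : ∀ z, D (s z) = z.1 := fun z => by
    have := LinearMap.congr_fun hs z
    exact congrArg Subtype.val this
  have hεD : ∀ x, ε (D x) = 0 := fun x => by
    have : D x ∈ LinearMap.ker ε := hD ▸ LinearMap.mem_range_self D x
    exact this
  have hπ : ∀ x, π (D x) = D.rangeRestrict x := fun x => by
    apply Subtype.ext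
    simp [π, hεD]
  have hker : ∀ x, (LinearMap.id - s ∘ₗ π ∘ₗ D : (α → ℤ) →ₗ[ℤ] (α → ℤ)) x ∈ LinearMap.ker D := fun x => by
    rw [LinearMap.mem_ker]
    simp [hπ, hs']
  have hrank1 : Module.finrank ℤ (LinearMap.range D) + Module.finrank ℤ (LinearMap.ker D) = Fintype.card α := by
    have h2 := Submodule.finrank_quotient_add_finrank (LinearMap.ker D)
    rw [LinearEquiv.finrank_eq D.quotKerEquivRange] at h2
    rw [h2]; simp
  have hrank2 : Module.finrank ℤ (LinearMap.range D) + 1 = Fintype.card β := by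
    have h2 := Submodule.finrank_quotient_add_finrank (LinearMap.ker ε)
    rw [LinearEquiv.finrank_eq (ε.quotKerEquivOfSurjective hε)] at h2
    rw [hD]
    simp at h2
    omega
  have hfr : Module.finrank ℤ (LinearMap.ker D) = n := by omega
  let bas := Module.finBasisOfFinrankEq ℤ (LinearMap.ker D) hfr
  let φ : LinearMap.ker D ≃ₗ[ℤ] (Fin n → ℤ) := bas.equivFun
  refine ⟨(LinearMap.ker D).subtype ∘ₗ φ.symm.toLinearMap,
    φ.toLinearMap ∘ₗ (LinearMap.id - s ∘ₗ π ∘ₗ D).codRestrict (LinearMap.ker D) hker, s ∘ₗ π, ?_, ?_, ?_⟩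
  · apply LinearMap.ext
    intro y
    have : D (φ.symm y).1 = 0 := (φ.symm y).2
    have h3 : (LinearMap.id - s ∘ₗ π ∘ₗ D).codRestrict (LinearMap.ker D) hker (φ.symm y).1 = φ.symm y := by
      apply Subtype.ext
      simp [this]
    simp only [LinearMap.comp_apply, LinearEquiv.coe_coe, Submodule.subtype_apply, LinearMap.id_apply]
    rw [h3, LinearEquiv.apply_symm_apply]
  · apply LinearMap.ext
    intro y
    exact (φ.symm y).2
  · apply LinearMap.ext
    intro x
    simp

end K774.Lin
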